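import Cfsg.Agent.H100.Ppd.Basic
import Cfsg.Agent.H203.LSSz
import Cfsg.Agent.S0324
import Cfsg.Agent.S0333
import Cfsg.Agent.S2126
import Cfsg.Agent.S2127
import Cfsg.Agent.S1159
import Cfsg.Agent.OddCyclic.ClaimC.SzIso

/-!
# TEAM PPD (S5948): the rows of the Suzuki groups and of the small Ree groups (helper947)

`row_sz`, `row_ree`.
-/

set_option autoImplicit false

namespace Cfsg.Agent.H947.Ppd

open Cfsg Cfsg.Geo Matrix Cfsg.Agent.H915.LD Cfsg.Agent.H100.Ppd

universe u v w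

/-- `U` a CC-subgroup whose order is prime to its index: elements whose order is not prime to `|U|` have order
dividing `|U|` -/
theorem cc_dvd {G : Type*} [Group G] [Finite G] (U : Subgroup G) (hco : Nat.Coprime (Nat.card U) U.index)
    (hV : ∀ u ∈ U, u ≠ 1 → Subgroup.centralizer {u} = U) {g : G} {r : ℕ} (hr : r.Prime) (hrU : r ∣ Nat.card U)
    (hrg : r ∣ orderOf g) : orderOf g ∣ Nat.card U := by
  have : Fact r.Prime := ⟨hr⟩
  obtain ⟨c, hc⟩ := hrg
  have hpos := orderOf_pos g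
  have hc0 : c ≠ 0 := by
    rintro rfl
    rw [mul_zero] at hc
    omega
  set x := g ^ c with hx
  have hxo : orderOf x = r := by
    rw [hx, orderOf_pow' g hc0, hc, Nat.gcd_eq_right (dvd_mul_left c r), Nat.mul_div_cancel _ (Nat.pos_of_ne_zero hc0)]
  have hp : IsPGroup r (Subgroup.zpowers x) := by
    apply IsPGroup.of_card (n := 1)
    rw [Nat.card_zpowers, hxo, pow_one]
  have hnd : ¬ r ∣ Nat.card (G ⧸ U) := by
    intro h
    have h1 := Nat.dvd_gcd hrU h
    rw [← Subgroup.index_eq_card] at h1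
    rw [Nat.Coprime] at hco
    rw [hco] at h1
    exact hr.one_lt.ne' (Nat.dvd_one.1 h1)
  obtain ⟨a, ha⟩ := hp.nonempty_fixed_point_of_prime_not_dvd_card (G ⧸ U) hnd
  obtain ⟨t, rfl⟩ := QuotientGroup.mk_surjective a
  have h1 : (⟨x, Subgroup.mem_zpowers x⟩ : Subgroup.zpowers x) • ((t : G) : G ⧸ U) = (t : G ⧸ U) := ha _
  have h2 : t⁻¹ * (x * t) ∈ U := by
    rw [← QuotientGroup.eq]
    exact h1.symm
  have h3 : t⁻¹ * (x * t) ≠ 1 := by
    intro h
    have h4 : x = 1 := by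
      have : x * t = t := by
        have := congrArg (t * ·) h
        simpa using this
      exact mul_eq_right.1 this
    rw [h4, orderOf_one] at hxo
    exact hr.one_lt.ne hxo
  have h4 : t⁻¹ * g * t ∈ U := by
    rw [← hV _ h2 h3, Subgroup.mem_centralizer_singleton_iff]
    have : g * x = x * g := by rw [hx]; exact (Commute.refl g).pow_right c
    calc t⁻¹ * g * t * (t⁻¹ * (x * t)) = t⁻¹ * (g * x) * t := by group
      _ = t⁻¹ * (x * t) * (t⁻¹ * g * t) := by rw [this]; group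
  have h5 : orderOf (t⁻¹ * g * t) = orderOf g := by
    have : t⁻¹ * g * t = MulAut.conj t⁻¹ g := by rw [MulAut.conj_apply, inv_inv]
    rw [this]
    exact orderOf_injective (MulAut.conj t⁻¹).toMonoidHom (MulAut.conj t⁻¹).injective g
  rw [← h5]
  exact Subgroup.orderOf_dvd_natCard U h4

/-- the final numeric argument -/
theorem num_false {q n k m Q s : ℕ} (h : Num q n k m) (hQn : Q - 1 ≤ n) (hQ1 : 1 ≤ Q) (h2s : 2 * s ≤ Q) (h2s' : 2 * s = Q → Q ≤ 8)
    (hodd : ¬ 2 ∣ Q + s + 1) (hm : m ∣ Q + s + 1) : False := by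
  have hlt := h.nlt
  have hml := h.mlt
  have h2k : Q ≤ 2 * k := by omega
  -- `m = Q + s + 1`
  have hmQ : m = Q + s + 1 := by
    obtain ⟨c, hc⟩ := hm
    rcases Nat.lt_or_ge c 2 with h1 | h1
    · interval_cases c
      · omega
      · omega
    · exfalso
      have : m * 2 ≤ m * c := Nat.mul_le_mul_left _ h1
      omega
  obtain ⟨r, hr, hrm⟩ := h.exists_prime
  have hrk := h.succ_le hr hrm
  have hmr : m = r := by
    obtain ⟨c, hc⟩ := hrm
    rcases Nat.lt_or_ge c 3 with h1 | h1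
    · interval_cases c
      · omega
      · omega
      · exfalso
        apply hodd
        rw [← hmQ, hc]
        exact dvd_mul_left 2 r
    · exfalso
      have : r * 3 ≤ r * c := Nat.mul_le_mul_left _ h1
      omega
  have hkd := h.dvd_sub_one hr hrm
  rw [← hmr, hmQ, Nat.add_sub_cancel] at hkd
  obtain ⟨c, hc⟩ := hkd
  have h6 := h.six_le
  rcases Nat.lt_or_ge c 3 with h1 | h1
  · interval_cases c
    · omega
    · omega
    · omega
  · have h3 : k * 3 ≤ k * c := Nat.mul_le_mul_left _ h1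
    have h4 : 2 * s = Q := by omega
    have := h2s' h4
    omega

variable {n : ℕ} {F : Type u} [Field F] [Finite F] {k m : ℕ} {P : Subgroup (GL (Fin n) F)}

/-- primes dividing `m` are large -/
theorem coprime_small {q n k m Q t : ℕ} (h : Num q n k m) (hQn : Q - 1 ≤ n) (ht0 : 0 < t) (ht : 2 * t ≤ Q) : m.Coprime t := by
  rw [Nat.coprime_iff_gcd_eq_one]
  by_contra hne
  obtain ⟨r, hr, hrd⟩ := Nat.exists_prime_and_dvd hne
  have h1 := h.succ_le hr (hrd.trans (Nat.gcd_dvd_left _ _))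
  have h2 := Nat.le_of_dvd ht0 (hrd.trans (Nat.gcd_dvd_right _ _))
  have h3 := h.nlt
  omega

/-- **The Suzuki groups.** -/
theorem row_sz (h : Row k m P) (h2 : (2 : F) ≠ 0) (hT : Lie.IsoSuzuki (Soc P)) : False := by
  obtain ⟨K, iK, iK', j, hj, hK, ⟨e⟩⟩ := hT
  have hn : Nat.card K - 1 ≤ n := h.le_of_ls e (r := 2) (by exact_mod_cast h2) (H203.LS.LS.sz hj hK)
  rw [Nat.card_eq_fintype_card, hK] at hn
  have hnum := h.num
  have hout : (2 * j + 1) * 2 ≤ 2 ^ (2 * j + 1) := by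
    rw [pow_succ]
    have : 2 * j < 2 ^ (2 * j) := Nat.lt_two_pow_self
    omega
  obtain ⟨y, hy⟩ := h.exists_elt e (by
    rw [Cfsg.Agent.S2126.result hj hK]
    exact coprime_small hnum hn (by omega) (by omega))
  obtain ⟨e'⟩ := Cfsg.Agent.OddCyclic.ClaimC.SzIso.iso (F := K) hj hK
  have hy' : orderOf (e'.symm y) = m := by
    rw [← hy]
    exact orderOf_injective e'.symm.toMonoidHom e'.symm.injective y
  have hcardG := Cfsg.Agent.S0324.result hj hK
  have h333 := Cfsg.Agent.S0333.result hj hK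
  have hss : 2 ^ (j + 1) * 2 ^ (j + 1) = 2 * 2 ^ (2 * j + 1) := by
    rw [← pow_add, ← pow_succ']
    congr 1
    ring
  have hs4 : 4 ≤ 2 ^ (j + 1) := by
    calc 4 = 2 ^ 2 := by norm_num
      _ ≤ 2 ^ (j + 1) := Nat.pow_le_pow_right (by norm_num) (by omega)
  have hseven : 2 ∣ 2 ^ (j + 1) := dvd_pow_self 2 (by omega)
  have hQeven : 2 ∣ 2 ^ (2 * j + 1) := dvd_pow_self 2 (by omega)
  obtain ⟨Q, hQ⟩ : ∃ Q, Q = 2 ^ (2 * j + 1) := ⟨_, rfl⟩
  obtain ⟨s, hs⟩ : ∃ s, s = 2 ^ (j + 1) := ⟨_, rfl⟩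
  rw [← hQ] at hn hcardG h333 hss hQeven
  rw [← hs] at h333 hss hs4 hseven
  have h2s : 2 * s ≤ Q := by nlinarith
  have hfac : Q ^ 2 + 1 = (Q + s + 1) * (Q - s + 1) := by
    obtain ⟨c, hc⟩ : ∃ c, Q = c + s := ⟨Q - s, by omega⟩
    have e1 : Q - s = c := by omega
    rw [e1]
    zify at hss hc ⊢
    have e2 : (c : ℤ) = Q - s := by linarith
    rw [e2]
    linear_combination hss
  have hmcard : m ∣ Q ^ 2 * (Q ^ 2 + 1) * (Q - 1) := by
    rw [← hcardG, ← hy']
    exact orderOf_dvd_natCard _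
  have hml := hnum.mlt
  have hnlt := hnum.nlt
  have hcQ : m.Coprime (Q ^ 2) := by
    rw [Nat.coprime_iff_gcd_eq_one]
    by_contra hne
    obtain ⟨r, hr, hrd⟩ := Nat.exists_prime_and_dvd hne
    have h1 := hnum.seven_le hr (hrd.trans (Nat.gcd_dvd_left _ _))
    have h3 : r ∣ Q := hr.dvd_of_dvd_pow (hrd.trans (Nat.gcd_dvd_right _ _))
    rw [hQ] at h3
    have h4 := Nat.le_of_dvd (by norm_num) (hr.dvd_of_dvd_pow h3)
    omega
  -- a prime dividing `m` and `Q² + 1`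
  obtain ⟨r, hr, hrm, hrQ⟩ : ∃ r, r.Prime ∧ r ∣ m ∧ r ∣ Q ^ 2 + 1 := by
    by_contra hcon
    push Not at hcon
    have h1 : m.Coprime (Q ^ 2 + 1) := by
      rw [Nat.coprime_iff_gcd_eq_one]
      by_contra hne
      obtain ⟨r, hr, hrd⟩ := Nat.exists_prime_and_dvd hne
      exact hcon r hr (hrd.trans (Nat.gcd_dvd_left _ _)) (hrd.trans (Nat.gcd_dvd_right _ _))
    have h3 := (Nat.Coprime.mul_right hcQ h1).dvd_of_dvd_mul_left hmcard
    have := Nat.le_of_dvd (by omega) h3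
    omega
  -- the tori
  have key : ∀ k' l' : ℕ, k' * l' = Q ^ 2 + 1 → Nat.Coprime k' l' → r ∣ k' → k' ∈ ({Q + s + 1, Q - s + 1} : Set ℕ) →
      m ∣ k' := by
    intro k' l' hkl hcop hrk hmem
    obtain ⟨U, -, hUc, hUz, -⟩ := h333 k' hmem
    rw [← hUc, ← hy']
    refine cc_dvd U ?_ hUz hr (hUc ▸ hrk) (by rw [hy']; exact hrm)
    have h1 := U.card_mul_index
    rw [hcardG, hUc] at h1
    have hk0 : 0 < k' := by rw [← hUc]; exact Nat.card_pos
    have h3 : U.index = Q ^ 2 * l' * (Q - 1) := by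
      apply Nat.eq_of_mul_eq_mul_left hk0
      rw [h1, ← hkl]
      ring
    rw [h3, hUc]
    have c1 : Nat.Coprime (Q ^ 2 + 1) (Q ^ 2) := by
      rw [Nat.coprime_self_add_left]
      exact Nat.coprime_one_left _
    have c2 : Nat.Coprime (Q ^ 2 + 1) (Q - 1) := by
      obtain ⟨c, hc⟩ : ∃ c, Q = c + 1 := ⟨Q - 1, by omega⟩
      rw [hc, Nat.add_sub_cancel]
      have e1 : (c + 1) ^ 2 + 1 = 2 + (c + 2) * c := by ring
      rw [e1, Nat.coprime_add_mul_right_left, Nat.coprime_two_left, ← Nat.not_even_iff_odd, even_iff_two_dvd]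
      omega
    have hkd : k' ∣ Q ^ 2 + 1 := ⟨l', hkl.symm⟩
    exact Nat.Coprime.mul_right (Nat.Coprime.mul_right (Nat.Coprime.coprime_dvd_left hkd c1) hcop)
      (Nat.Coprime.coprime_dvd_left hkd c2)
  have hcop : Nat.Coprime (Q + s + 1) (Q - s + 1) := by
    have e1 : Q + s + 1 = 2 * s + (Q - s + 1) := by omega
    rw [e1, Nat.coprime_add_self_left]
    have hodd : ¬ 2 ∣ Q - s + 1 := by omega
    have h5 : 2 * s = 2 ^ (j + 2) := by rw [hs, ← pow_succ']
    rw [h5]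
    exact Nat.Coprime.pow_left _ ((Nat.Prime.coprime_iff_not_dvd Nat.prime_two).2 hodd)
  rw [hfac] at hrQ
  rcases hr.dvd_mul.1 hrQ with h5 | h5
  · have h6 := key (Q + s + 1) (Q - s + 1) hfac.symm hcop h5 (by simp)
    refine num_false hnum hn (by omega) h2s (fun h7 => ?_) (by omega) h6
    have : s ≤ 4 := by
      have : s * s = 4 * s := by rw [hss, ← h7]; ring
      exact le_of_eq (Nat.eq_of_mul_eq_mul_right (by omega) this)
    omega
  · have h6 := key (Q - s + 1) (Q + s + 1) (by rw [mul_comm]; exact hfac.symm) hcop.symm h5 (by simp)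
    have := Nat.le_of_dvd (by omega) h6
    omega

/-- **The small Ree groups.** -/
theorem row_ree (h : Row k m P) (h3 : (3 : F) ≠ 0) (hT : Lie.IsoRee (Soc P)) : False := by
  obtain ⟨K, iK, iK', j, hj, hK, ⟨e⟩⟩ := hT
  have hn : Nat.card K - 1 ≤ n := h.le_of_ls e (r := 3) (by exact_mod_cast h3) (H203.LS.LS.ree hj hK)
  rw [Nat.card_eq_fintype_card, hK] at hn
  have hnum := h.num
  have hout : (2 * j + 1) * 2 ≤ 3 ^ (2 * j + 1) := by
    have h1 : (2 * j + 1) * 2 ≤ 2 ^ (2 * j + 1) := by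
      rw [pow_succ]
      have : 2 * j < 2 ^ (2 * j) := Nat.lt_two_pow_self
      omega
    exact h1.trans (Nat.pow_le_pow_left (by norm_num) _)
  obtain ⟨y, hy⟩ := h.exists_elt e (by
    rw [Cfsg.Agent.S2127.result hj hK]
    exact coprime_small hnum hn (by omega) (by omega))
  have h1159 := (Cfsg.Agent.S1159.result hj hK m).1 ⟨y, hy⟩
  have hrr : 3 ^ (j + 1) * 3 ^ (j + 1) = 3 * 3 ^ (2 * j + 1) := by
    rw [← pow_add, ← pow_succ']
    congr 1
    ring
  have hr9 : 9 ≤ 3 ^ (j + 1) := by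
    calc 9 = 3 ^ 2 := by norm_num
      _ ≤ 3 ^ (j + 1) := Nat.pow_le_pow_right (by norm_num) (by omega)
  have hrodd : ¬ 2 ∣ 3 ^ (j + 1) := fun h => by
    have := Nat.le_of_dvd (by norm_num) (Nat.prime_two.dvd_of_dvd_pow h)
    have h2 := Nat.prime_two.dvd_of_dvd_pow h
    omega
  have hQodd : ¬ 2 ∣ 3 ^ (2 * j + 1) := fun h => by
    have h2 := Nat.prime_two.dvd_of_dvd_pow h
    omega
  obtain ⟨Q, hQ⟩ : ∃ Q, Q = 3 ^ (2 * j + 1) := ⟨_, rfl⟩
  obtain ⟨s, hs⟩ : ∃ s, s = 3 ^ (j + 1) := ⟨_, rfl⟩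
  rw [← hQ] at hn h1159 hrr hQodd
  rw [← hs] at h1159 hrr hr9 hrodd
  have h3s : 3 * s ≤ Q := by nlinarith
  have hml := hnum.mlt
  have hnlt := hnum.nlt
  rcases h1159 with h5 | h5 | h5 | h5 | h5 | h5
  · have := Nat.le_of_dvd (by norm_num) h5
    omega
  · have := Nat.le_of_dvd (by norm_num) h5
    omega
  · have := Nat.le_of_dvd (by omega) h5
    omega
  · have := Nat.le_of_dvd (by omega) h5
    omega
  · have := Nat.le_of_dvd (by omega) h5
    omega
  · exact num_false hnum hn (by omega) (by omega) (by omega) (by omega) h5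

end Cfsg.Agent.H947.Ppd
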